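import Mathlib
import Groth.Agent.UnipConil.Basic
import Groth.Agent.Comod.Reductive
import Groth.Agent.Comod.FGSub
import Groth.Prelude.Def_ComodSub

/-!
Trigonalizable groups: exhaustion of the coordinate bialgebra by the filtration starting at the span
of the group-like elements.
-/

set_option autoImplicit false
set_option linter.style.haveILetI false
set_option linter.unusedSectionVars false

universe u v

open TensorProduct Coalgebra
open Groth.Agent.Comod
open Groth.Agent.UnipConil (pair mem_of_forall_dual pair_eq_cR)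
open scoped Groth.Agent.Comod

noncomputable section

namespace Groth.Agent.TrigExh

section Field

variable {k : Type u} [Field k] {B : Type u} [CommRing B] [Bialgebra k B]

variable (k B) in
/-- The span of the group-like elements. -/
def glSpan : Submodule k B :=
  Submodule.span k (Set.range (Subtype.val : {a : B // IsGroupLikeElem k a} → B))

variable (k B) in
/-- The filtration by powers of the ideal of functionals killing the group-like elements. -/
def filtT : ℕ → Submodule k B
  | 0 => glSpan k B
  | n + 1 => ⨅ (f : B →ₗ[k] k) (g : B →ₗ[k] k) (_ : ∀ c ∈ glSpan k B, f c = 0)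
      (_ : ∀ c ∈ filtT n, g c = 0), LinearMap.ker (pair k B f g)

theorem mem_filtT_succ {n : ℕ} {c : B} : c ∈ filtT k B (n + 1) ↔
    ∀ f g : B →ₗ[k] k, (∀ x ∈ glSpan k B, f x = 0) → (∀ x ∈ filtT k B n, g x = 0) →
      pair k B f g c = 0 := by
  simp [filtT, Submodule.mem_iInf, LinearMap.mem_ker]

theorem mem_glSpan {a : B} (ha : IsGroupLikeElem k a) : a ∈ glSpan k B :=
  Submodule.subset_span ⟨⟨a, ha⟩, rfl⟩

theorem pair_groupLike (f g : B →ₗ[k] k) {a : B} (ha : IsGroupLikeElem k a) :
    pair k B f g a = f a * g a := by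
  show LinearMap.mul' k k (TensorProduct.map f g (comul (R := k) a)) = _
  rw [ha.comul_eq_tmul_self]
  simp

theorem filtT_le_succ : ∀ n, filtT k B n ≤ filtT k B (n + 1)
  | 0 => Submodule.span_le.mpr (by
      rintro _ ⟨⟨a, ha⟩, rfl⟩
      exact mem_filtT_succ.mpr fun f g hf _ => by rw [pair_groupLike f g ha, hf a (mem_glSpan ha), zero_mul])
  | n + 1 => fun c hc => mem_filtT_succ.mpr fun f g hf hg =>
      mem_filtT_succ.mp hc f g hf fun x hx => hg x (filtT_le_succ n hx)

theorem filtT_mono : Monotone (filtT k B) := monotone_nat_of_le_succ filtT_le_succ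

variable {V : Type u} [AddCommGroup V] [Module k V] [HopfRep.Comod k B V]

/-- A vector with coefficients in the span of the group-like elements yields a stable line. -/
theorem exists_line_of_glSpan {u : V} (hu : u ≠ 0)
    (h : ∀ φ, cL φ (HopfRep.Comod.coact (k := k) (A := B) u) ∈ glSpan k B) :
    ∃ x : V, x ≠ 0 ∧ ∀ f, dact k B V f x ∈ Submodule.span k {x} := by
  classical
  have hli : LinearIndependent k (Subtype.val : {a : B // IsGroupLikeElem k a} → B) :=
    linearIndepOn_isGroupLikeElem
  let β : Module.Basis {a : B // IsGroupLikeElem k a} k (glSpan k B) := Module.Basis.span hli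
  obtain ⟨z, hz⟩ := (mem_range_lTensor_iff _ _).mpr h
  set y := TensorProduct.equivFinsuppOfBasisRight (M := V) β z with hy
  have hzy : z = y.sum fun i m => m ⊗ₜ[k] β i := by
    rw [← TensorProduct.equivFinsuppOfBasisRight_symm_apply, hy, LinearEquiv.symm_apply_apply]
  have hρ : HopfRep.Comod.coact (k := k) (A := B) u = y.sum fun i m => m ⊗ₜ[k] (i : B) := by
    rw [← hz, hzy, map_finsuppSum]
    exact Finsupp.sum_congr fun i _ => by
      rw [LinearMap.lTensor_tmul, Submodule.subtype_apply]
      exact congrArg _ (congrArg Subtype.val (Module.Basis.span_apply hli i))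
  have hy0 : y ≠ 0 := by
    intro h0
    refine hu ?_
    have h1 : dact k B V 1 u = 0 := by
      rw [dact_apply, hρ, h0, Finsupp.sum_zero_index, map_zero]
    rwa [map_one] at h1
  obtain ⟨i, hi⟩ := Finsupp.ne_iff.mp hy0
  obtain ⟨g, hg⟩ := LinearMap.exists_extend (p := glSpan k B) (β.coord i)
  have hga : ∀ j : {a : B // IsGroupLikeElem k a}, g (j : B) = if j = i then 1 else 0 := by
    intro j
    have : g (β j : B) = β.coord i (β j) := LinearMap.congr_fun hg (β j)
    rw [show (β j : B) = (j : B) from congrArg Subtype.val (Module.Basis.span_apply hli j)] at this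
    rw [this, Module.Basis.coord_apply, Module.Basis.repr_self, Finsupp.single_apply]
  have key : ∀ G : B →ₗ[k] k, dact k B V (WithConv.toConv G) u = y.sum fun j m => G (j : B) • m := by
    intro G
    rw [dact_apply, hρ, map_finsuppSum]
    exact Finsupp.sum_congr fun j _ => cR_tmul _ _ _
  have hx : dact k B V (WithConv.toConv g) u = y i := by
    rw [key]
    simp only [hga, ite_smul, one_smul, zero_smul]
    rw [Finsupp.sum_ite_eq']
    simp only [Finsupp.mem_support_iff]
    split_ifs with h
    · rfl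
    · exact (not_not.mp h).symm
  refine ⟨y i, hi, fun f => Submodule.mem_span_singleton.mpr ⟨f.ofConv i, ?_⟩⟩
  have h2 : dact k B V f (dact k B V (WithConv.toConv g) u) = dact k B V (f * WithConv.toConv g) u := by
    rw [map_mul]; rfl
  rw [← hx, h2, key, dact_apply, hρ, map_finsuppSum, Finsupp.smul_sum]
  refine Finsupp.sum_congr fun j _ => ?_
  rw [cR_tmul, smul_smul, hga]
  have e : (f * WithConv.toConv g).ofConv (j : B) = f.ofConv (j : B) * g (j : B) := by
    rw [← pair_groupLike _ _ j.2, UnipConil.pair_eq_mul]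
  rw [e, hga]
  split_ifs with hji
  · subst hji; exact congrArg (· • y j) (by ring)
  · simp

/-- An exhaustive filtration gives trigonalizability. -/
theorem isTrigonalizable_of_exhaustive (h : ∀ b : B, ∃ n, b ∈ filtT k B n) :
    HopfRep.IsTrigonalizable k B := by
  intro V _ _ _ _ hV
  haveI := hV.1
  obtain ⟨v, hv⟩ := exists_ne (0 : V)
  let Φ : (V →ₗ[k] k) →ₗ[k] B :=
    { toFun := fun φ => cL φ (HopfRep.Comod.coact (k := k) (A := B) v)
      map_add' := fun φ ψ => by simp [cL, LinearMap.rTensor_add]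
      map_smul' := fun a φ => by simp [cL, LinearMap.rTensor_smul] }
  obtain ⟨s, hs⟩ := Module.Finite.iff_fg.mp (inferInstance : Module.Finite k (LinearMap.range Φ))
  choose m hm using h
  have hb : ∀ φ, cL φ (HopfRep.Comod.coact (k := k) (A := B) v) ∈ filtT k B (s.sup m) := fun φ => by
    have : LinearMap.range Φ ≤ filtT k B (s.sup m) := by
      rw [← hs, Submodule.span_le]
      exact fun x hx => filtT_mono (Finset.le_sup hx) (hm x)
    exact this ⟨φ, rfl⟩
  generalize s.sup m = n at hb
  suffices ∃ x : V, x ≠ 0 ∧ ∀ f, dact k B V f x ∈ Submodule.span k {x} by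
    obtain ⟨x, hx, hst⟩ := this
    have hW : HopfRep.IsSubcomod (k := k) (A := B) (Submodule.span k {x}) := by
      refine isSubcomod_iff.mpr fun f w hw => ?_
      obtain ⟨a, rfl⟩ := Submodule.mem_span_singleton.mp hw
      rw [map_smul]
      exact Submodule.smul_mem _ _ (hst f)
    rcases hV.2 _ hW with h0 | h1
    · exact absurd (Submodule.span_singleton_eq_bot.mp h0) hx
    · rw [← finrank_top, ← h1, finrank_span_singleton hx]
  clear hm hs
  induction n generalizing v with
  | zero => exact exists_line_of_glSpan hv hb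
  | succ n ih =>
    by_cases hn : ∀ φ, cL φ (HopfRep.Comod.coact (k := k) (A := B) v) ∈ filtT k B n
    · exact ih v hv hn
    push Not at hn
    obtain ⟨φ₀, hφ₀⟩ := hn
    obtain ⟨g, hg1, hg2⟩ := Submodule.exists_dual_map_eq_bot_of_notMem hφ₀ inferInstance
    have hg : ∀ c ∈ filtT k B n, g c = 0 := fun c hc =>
      (Submodule.mem_bot k).1 (hg2 ▸ Submodule.mem_map_of_mem hc)
    let u := dact k B V (WithConv.toConv g) v
    have hu : u ≠ 0 := fun hz => hg1 (by
      rw [show g (cL φ₀ _) = φ₀ u from apply_cL_coact (WithConv.toConv g) φ₀ v, hz, map_zero])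
    refine exists_line_of_glSpan hu fun φ => ?_
    rw [show cL φ (HopfRep.Comod.coact (k := k) (A := B) u) =
        cR g (comul (R := k) (cL φ (HopfRep.Comod.coact (k := k) (A := B) v))) from
          (coeff_smul (WithConv.toConv g) φ v).symm]
    refine mem_of_forall_dual fun f hf => ?_
    rw [← pair_eq_cR]
    exact mem_filtT_succ.mp (hb φ) f g hf hg

end Field

section Corep

variable {A : Type u} [CommRing A] {H : Type v} [CommRing H] [Bialgebra A H]

/-- The entries of a matrix modulo an eigenvector with a coordinate equal to `1`. -/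
def blk {m : ℕ} (T : Matrix (Fin m) (Fin m) H) (v : Fin m → A) (i₀ : Fin m) : Matrix (Fin m) (Fin m) H :=
  .of fun i j => T i j - algebraMap A H (v i) * T i₀ j

theorem corep_comul {m : Type*} [Fintype m] [DecidableEq m] {T : Matrix m m H} (hT : IsCorep (k := A) T)
    (i j : m) : comul (R := A) (T i j) = ∑ l, T i l ⊗ₜ[A] T l j := by
  simpa [Matrix.mul_apply] using congrFun (congrFun hT.map_comul i) j

theorem corep_counit {m : Type*} [Fintype m] [DecidableEq m] {T : Matrix m m H} (hT : IsCorep (k := A) T)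
    (i j : m) : counit (R := A) (T i j) = if i = j then 1 else 0 := by
  simpa [Matrix.one_apply] using congrFun (congrFun hT.map_counit i) j

variable {m : ℕ} {T : Matrix (Fin (m + 1)) (Fin (m + 1)) H} {v : Fin (m + 1) → A} {i₀ : Fin (m + 1)} {γ : H}

theorem blk_row (hv : v i₀ = 1) (j : Fin (m + 1)) : blk T v i₀ i₀ j = 0 := by
  simp [blk, hv]

theorem blk_vec (hv : v i₀ = 1) (he : ∀ i, ∑ j, T i j * algebraMap A H (v j) = γ * algebraMap A H (v i))
    (i : Fin (m + 1)) : ∑ j, blk T v i₀ i j * algebraMap A H (v j) = 0 := by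
  simp only [blk, Matrix.of_apply, sub_mul, Finset.sum_sub_distrib, mul_assoc, ← Finset.mul_sum, he, hv,
    map_one, mul_one]
  rw [mul_comm, sub_self]

theorem blk_col (hv : v i₀ = 1) (he : ∀ i, ∑ j, T i j * algebraMap A H (v j) = γ * algebraMap A H (v i))
    (i : Fin (m + 1)) : blk T v i₀ i i₀ =
      -∑ j, blk T v i₀ i (i₀.succAbove j) * algebraMap A H (v (i₀.succAbove j)) := by
  have := blk_vec hv he i
  rw [Fin.sum_univ_succAbove _ i₀, hv, map_one, mul_one] at this
  exact eq_neg_of_add_eq_zero_left this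

theorem isCorep_blk (hT : IsCorep (k := A) T) (hv : v i₀ = 1)
    (he : ∀ i, ∑ j, T i j * algebraMap A H (v j) = γ * algebraMap A H (v i)) :
    IsCorep (k := A) ((blk T v i₀).submatrix i₀.succAbove i₀.succAbove) := by
  constructor
  · ext a b
    simp only [Matrix.map_apply, Matrix.submatrix_apply, Bialgebra.comulAlgHom_apply, Matrix.mul_apply,
      Algebra.TensorProduct.includeLeft_apply, Algebra.TensorProduct.includeRight_apply,
      Algebra.TensorProduct.tmul_mul_tmul, mul_one, one_mul]
    generalize i₀.succAbove a = i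
    generalize hj : i₀.succAbove b = j
    have h1 : comul (R := A) (blk T v i₀ i j) = ∑ l, blk T v i₀ i l ⊗ₜ[A] T l j := by
      simp only [blk, Matrix.of_apply, ← Algebra.smul_def, map_sub, map_smul, corep_comul hT,
        TensorProduct.sub_tmul, Finset.sum_sub_distrib, Finset.smul_sum, TensorProduct.smul_tmul']
    rw [h1, Fin.sum_univ_succAbove _ i₀, blk_col hv he, TensorProduct.neg_tmul, TensorProduct.sum_tmul,
      ← Finset.sum_neg_distrib, ← Finset.sum_add_distrib]
    refine Finset.sum_congr rfl fun l _ => ?_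
    rw [show blk T v i₀ (i₀.succAbove l) j =
        T (i₀.succAbove l) j - algebraMap A H (v (i₀.succAbove l)) * T i₀ j from rfl,
      TensorProduct.tmul_sub, mul_comm (blk T v i₀ i _), ← Algebra.smul_def, ← Algebra.smul_def,
      TensorProduct.smul_tmul]
    abel
  · ext a b
    simp only [Matrix.map_apply, Matrix.submatrix_apply, Bialgebra.counitAlgHom_apply, blk, Matrix.of_apply,
      ← Algebra.smul_def, map_sub, map_smul, corep_counit hT, Matrix.one_apply,
      Fin.succAbove_right_inj, if_neg (Fin.succAbove_ne i₀ b).symm, smul_zero, sub_zero]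

/-- The eigenvalue is group-like. -/
theorem isGroupLikeElem_eig (hT : IsCorep (k := A) T) (hv : v i₀ = 1)
    (he : ∀ i, ∑ j, T i j * algebraMap A H (v j) = γ * algebraMap A H (v i)) : IsGroupLikeElem A γ := by
  have hγ : γ = ∑ j, v j • T i₀ j := by
    have := he i₀
    rw [hv, map_one, mul_one] at this
    rw [← this]
    exact Finset.sum_congr rfl fun j _ => by rw [Algebra.smul_def, mul_comm]
  refine ⟨?_, ?_⟩
  · rw [hγ]
    simp [map_sum, corep_counit hT, hv]
  · conv_lhs => rw [hγ]
    simp only [map_sum, map_smul, corep_comul hT, Finset.smul_sum]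
    rw [Finset.sum_comm]
    have : ∀ l, ∑ j, v j • (T i₀ l ⊗ₜ[A] T l j) = (v l • T i₀ l) ⊗ₜ[A] γ := by
      intro l
      calc ∑ j, v j • (T i₀ l ⊗ₜ[A] T l j) = T i₀ l ⊗ₜ[A] ∑ j, T l j * algebraMap A H (v j) := by
            rw [TensorProduct.tmul_sum]
            exact Finset.sum_congr rfl fun j _ => by
              rw [← TensorProduct.tmul_smul, Algebra.smul_def, mul_comm]
        _ = T i₀ l ⊗ₜ[A] (v l • γ) := by rw [he, Algebra.smul_def, mul_comm]
        _ = (v l • T i₀ l) ⊗ₜ[A] γ := (TensorProduct.smul_tmul _ _ _).symm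
    simp only [this, ← TensorProduct.sum_tmul, ← hγ]

end Corep

section Step

variable {k : Type u} [Field k] {B : Type u} [CommRing B] [Bialgebra k B]

theorem mem_filtT_of_blk {m n : ℕ} {t : Matrix (Fin (m + 1)) (Fin (m + 1)) B} {v : Fin (m + 1) → k}
    {i₀ : Fin (m + 1)} {γ : B} (ht : IsCorep (k := k) t) (hv : v i₀ = 1)
    (he : ∀ i, ∑ j, t i j * algebraMap k B (v j) = γ * algebraMap k B (v i))
    (hb : ∀ a b, blk t v i₀ (i₀.succAbove a) (i₀.succAbove b) ∈ filtT k B n) :
    ∀ i j, t i j ∈ filtT k B (n + 1) := by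
  have hγ := isGroupLikeElem_eig ht hv he
  have hbk : ∀ i j, blk t v i₀ i j ∈ filtT k B n := by
    intro i j
    rcases Fin.eq_self_or_eq_succAbove i₀ i with rfl | ⟨a, rfl⟩
    · rw [blk_row hv]; exact zero_mem _
    rcases Fin.eq_self_or_eq_succAbove i₀ j with rfl | ⟨b, rfl⟩
    · rw [blk_col hv he]
      refine neg_mem (sum_mem fun l _ => ?_)
      rw [mul_comm, ← Algebra.smul_def]
      exact Submodule.smul_mem _ _ (hb a l)
    · exact hb a b
  have htij : ∀ i j, t i j = blk t v i₀ i j + v i • t i₀ j := fun i j => by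
    simp [blk, Algebra.smul_def]
  have hrow : ∀ j, t i₀ j ∈ filtT k B (n + 1) := by
    intro j
    refine mem_filtT_succ.mpr fun f g hf hg => ?_
    show LinearMap.mul' k k (TensorProduct.map f g (comul (R := k) (t i₀ j))) = 0
    rw [corep_comul ht, map_sum, map_sum]
    have : ∀ l, LinearMap.mul' k k (TensorProduct.map f g (t i₀ l ⊗ₜ[k] t l j)) =
        f (v l • t i₀ l) * g (t i₀ j) := fun l => by
      rw [TensorProduct.map_tmul, LinearMap.mul'_apply]
      conv_lhs => rw [htij l j, map_add, hg _ (hbk l j), zero_add, map_smul, smul_eq_mul]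
      rw [map_smul, smul_eq_mul]
      ring
    rw [Finset.sum_congr rfl fun l _ => this l, ← Finset.sum_mul, ← map_sum]
    have e : ∑ l, v l • t i₀ l = γ := by
      have := he i₀
      rw [hv, map_one, mul_one] at this
      rw [← this]
      exact Finset.sum_congr rfl fun l _ => by rw [Algebra.smul_def, mul_comm]
    rw [e, hf γ (mem_glSpan hγ), zero_mul]
  intro i j
  rw [htij]
  exact add_mem (filtT_le_succ n (hbk i j)) (Submodule.smul_mem _ _ (hrow j))

end Step

section Exhaust

variable (A : Type u) [CommRing A] (H : Type v) [CommRing H] [Bialgebra A H]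

/-- Every matrix corepresentation has an eigenvector with a coordinate equal to `1`. -/
def HasEig : Prop :=
  ∀ (m : ℕ) (T : Matrix (Fin (m + 1)) (Fin (m + 1)) H), IsCorep (k := A) T →
    ∃ (v : Fin (m + 1) → A) (i₀ : Fin (m + 1)) (γ : H), v i₀ = 1 ∧
      ∀ i, ∑ j, T i j * algebraMap A H (v j) = γ * algebraMap A H (v i)

end Exhaust

section Exhaust

variable {A : Type u} [CommRing A] {H : Type u} [CommRing H] [Bialgebra A H]
variable (k : Type u) [Field k] [Algebra A k]

/-- The inclusion into the base change. -/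
abbrev inc : H →ₐ[A] k ⊗[A] H := Algebra.TensorProduct.includeRight

theorem inc_algebraMap (a : A) : inc k (algebraMap A H a) = algebraMap k (k ⊗[A] H) (algebraMap A k a) := by
  rw [AlgHom.commutes, IsScalarTower.algebraMap_apply A k (k ⊗[A] H)]

theorem isCorep_inc {m : Type*} [Fintype m] [DecidableEq m] {T : Matrix m m H}
    (hT : IsCorep (k := A) T) : IsCorep (k := k) (T.map (inc (A := A) k)) := by
  constructor
  · ext i j
    simp only [Matrix.map_apply, Bialgebra.comulAlgHom_apply, Matrix.mul_apply,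
      Algebra.TensorProduct.includeLeft_apply, Algebra.TensorProduct.includeRight_apply,
      Algebra.TensorProduct.tmul_mul_tmul, mul_one, one_mul]
    rw [TensorProduct.comul_tmul, CommSemiring.comul_apply, corep_comul hT, TensorProduct.tmul_sum, map_sum]
    exact Finset.sum_congr rfl fun l _ => by simp
  · ext i j
    simp [corep_counit hT, Matrix.one_apply]

theorem corep_mem_filtT (hE : HasEig A H) : ∀ (n : ℕ) (T : Matrix (Fin n) (Fin n) H), IsCorep (k := A) T →
    ∀ i j, inc k (T i j) ∈ filtT k (k ⊗[A] H) n := by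
  intro n
  induction n with
  | zero => exact fun T _ i => i.elim0
  | succ n ih =>
    intro T hT
    obtain ⟨v, i₀, γ, hv, he⟩ := hE n T hT
    have he' : ∀ i, ∑ j, (T.map (inc (A := A) k)) i j * algebraMap k (k ⊗[A] H) (algebraMap A k (v j)) =
        inc k γ * algebraMap k (k ⊗[A] H) (algebraMap A k (v i)) := fun i => by
      simp only [Matrix.map_apply, ← inc_algebraMap k, ← map_mul, ← map_sum, he i]
    refine mem_filtT_of_blk (v := fun i => algebraMap A k (v i)) (i₀ := i₀) (isCorep_inc k hT) (show algebraMap A k (v i₀) = 1 by rw [hv, map_one]) he' fun a b => ?_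
    have := ih _ (isCorep_blk hT hv he) a b
    simp only [Matrix.submatrix_apply, blk, Matrix.of_apply, map_sub, map_mul, inc_algebraMap] at this
    simpa only [blk, Matrix.of_apply, Matrix.map_apply] using this

variable [IsDomain A] [IsPrincipalIdealRing A] [Module.Flat A H]

/-- Every element is a combination of entries of a matrix corepresentation. -/
theorem exists_corep (h : H) : ∃ (n : ℕ) (T : Matrix (Fin n) (Fin n) H), IsCorep (k := A) T ∧
    h ∈ Submodule.span A (Set.range fun p : Fin n × Fin n => T p.1 p.2) := by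
  classical
  obtain ⟨W, hW, hfg, hst⟩ := exists_fg_stable (V := H) (C := H) (comul (R := A)) Coalgebra.coassoc
    Coalgebra.lTensor_counit_comp_comul (Submodule.span A {h}) (Submodule.fg_span_singleton h)
  have hfin : Module.Finite A W := Module.Finite.iff_fg.mpr hfg
  have : Module.IsTorsionFree A W :=
    Function.Injective.moduleIsTorsionFree _ W.subtype_injective fun _ _ => rfl
  obtain ⟨n, b⟩ := Module.basisOfFiniteTypeTorsionFree' (R := A) (M := W)
  letI cW : HopfRep.Comod A H W := ComodSub.Comod.restr (HopfRep.Comod.regular A H) W hst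
  refine ⟨n, coMatrix (A := H) b, isCorep_coMatrix b, ?_⟩
  set L := Submodule.span A (Set.range fun p : Fin n × Fin n => coMatrix (A := H) b p.1 p.2)
  have hb : ∀ j, (b j : H) ∈ L := fun j => by
    have h1 : W.subtype.rTensor H (HopfRep.Comod.coact (k := A) (A := H) (b j)) =
        CoalgebraStruct.comul (R := A) (b j : H) :=
      ComodSub.restr_coact_coe (HopfRep.Comod.regular A H) W hst (b j)
    rw [coact_basis b, map_sum] at h1
    have h2 := congr(TensorProduct.lid A H ((CoalgebraStruct.counit (R := A) (A := H)).rTensor H $h1))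
    rw [Coalgebra.rTensor_counit_comul] at h2
    simp only [map_sum, LinearMap.rTensor_tmul, TensorProduct.lid_tmul, one_smul] at h2
    rw [← h2]
    exact sum_mem fun i _ => L.smul_mem _ (Submodule.subset_span ⟨(i, j), rfl⟩)
  have hh : h ∈ W := hW (Submodule.mem_span_singleton_self h)
  have h3 := congr_arg W.subtype (b.sum_repr ⟨h, hh⟩)
  simp only [map_sum, map_smul, Submodule.subtype_apply] at h3
  rw [← h3]
  exact sum_mem fun i _ => L.smul_mem _ (hb i)

theorem exhaustive (hE : HasEig A H) : ∀ b : k ⊗[A] H, ∃ n, b ∈ filtT k (k ⊗[A] H) n := by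
  intro b
  induction b using TensorProduct.induction_on with
  | zero => exact ⟨0, zero_mem _⟩
  | tmul c h =>
    obtain ⟨n, T, hT, hh⟩ := exists_corep (A := A) h
    refine ⟨n, ?_⟩
    rw [show c ⊗ₜ[A] h = c • inc (A := A) k h by simp [TensorProduct.smul_tmul']]
    refine Submodule.smul_mem _ _ ?_
    refine (Submodule.span_le (p := ((filtT k (k ⊗[A] H) n).restrictScalars A).comap (inc (A := A) k).toLinearMap)).mpr ?_ hh
    rintro _ ⟨⟨i, j⟩, rfl⟩
    exact corep_mem_filtT k hE n T hT i j
  | add x y hx hy =>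
    obtain ⟨a, ha⟩ := hx
    obtain ⟨b, hb⟩ := hy
    exact ⟨max a b, add_mem (filtT_mono (le_max_left a b) ha) (filtT_mono (le_max_right a b) hb)⟩

theorem isTrigonalizable_of_hasEig (hE : HasEig A H) : HopfRep.IsTrigonalizable k (k ⊗[A] H) :=
  isTrigonalizable_of_exhaustive (exhaustive k hE)

end Exhaust

section Eigen

variable {K : Type u} [Field K] {C : Type v} [CommRing C] [HopfAlgebra K C]

/-- Trigonalizable groups have stable lines. -/
theorem exists_eigenline (hT : HopfRep.IsTrigonalizable K C) (V : Type v) [AddCommGroup V] [Module K V]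
    [Module.Finite K V] [Nontrivial V] [c : HopfRep.Comod K C V] :
    ∃ (x : V) (γ : C), x ≠ 0 ∧ HopfRep.Comod.coact (k := K) (A := C) x = x ⊗ₜ[K] γ := by
  classical
  let P : ℕ → Prop := fun n => ∃ W : Submodule K V,
    HopfRep.IsSubcomod (k := K) (A := C) W ∧ W ≠ ⊥ ∧ Module.finrank K W = n
  have hP : ∃ n, P n := ⟨_, ⊤, isSubcomod_iff.mpr fun _ _ _ => trivial, top_ne_bot, rfl⟩
  obtain ⟨W, hW, hW0, hn⟩ := Nat.find_spec hP
  letI cW : HopfRep.Comod K C W := ComodSub.Comod.restr c W hW
  have hhom : ∀ (f : CDual K C) (w : W), ((dact K C W f w : W) : V) = dact K C V f (w : V) := by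
    intro f w
    have h1 := ComodSub.restr_coact_coe c W hW w
    rw [dact_apply, dact_apply, ← h1, cR_rTensor]
    rfl
  have hsimple : HopfRep.IsSimpleComod K C W := by
    haveI : Nontrivial W := Submodule.nontrivial_iff_ne_bot.mpr hW0
    refine ⟨inferInstance, fun U hU => ?_⟩
    by_contra hne
    push Not at hne
    refine Nat.find_min hP (m := Module.finrank K (U.map W.subtype)) ?_ ⟨U.map W.subtype, ?_, ?_, rfl⟩
    · rw [← hn, ← LinearEquiv.finrank_eq (Submodule.equivMapOfInjective _ W.subtype_injective U)]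
      exact Submodule.finrank_lt hne.2
    · refine isSubcomod_iff.mpr ?_
      rintro f _ ⟨w, hw, rfl⟩
      exact ⟨_, isSubcomod_iff.mp hU f w hw, hhom f w⟩
    · intro h0
      exact hne.1 (Submodule.map_injective_of_injective W.subtype_injective (h0.trans (Submodule.map_bot _).symm))
  have h1 := hT W inferInstance hsimple
  obtain ⟨⟨x, hxW⟩, hx0, hspan⟩ := finrank_eq_one_iff'.mp h1
  have hx : x ≠ 0 := fun h => hx0 (Subtype.ext h)
  obtain ⟨φ, hφ⟩ : ∃ φ : V →ₗ[K] K, φ x = 1 := by
    obtain ⟨φ, hφ⟩ := not_forall.mp (mt (Module.forall_dual_apply_eq_zero_iff K x).mp hx)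
    exact ⟨(φ x)⁻¹ • φ, inv_mul_cancel₀ hφ⟩
  refine ⟨x, cL φ (HopfRep.Comod.coact (k := K) (A := C) x), hx, tensor_eq_of_cR fun f => ?_⟩
  obtain ⟨a, ha⟩ := hspan ⟨_, isSubcomod_iff.mp hW (WithConv.toConv f) x hxW⟩
  have ha' : a • x = cR f (HopfRep.Comod.coact (k := K) (A := C) x) := congr_arg Subtype.val ha
  rw [cR_tmul, cR_cL, ← ha', map_smul, hφ, smul_eq_mul, mul_one]

/-- Trigonalizable groups give eigenvectors of matrix corepresentations. -/
theorem exists_eigvec (hT : HopfRep.IsTrigonalizable K C) {m : ℕ} {T : Matrix (Fin (m + 1)) (Fin (m + 1)) C}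
    (h : IsCorep (k := K) T) :
    ∃ (w : Fin (m + 1) → K) (γ : C), w ≠ 0 ∧ ∀ i, ∑ j, T i j * algebraMap K C (w j) = γ * algebraMap K C (w i) := by
  rcases subsingleton_or_nontrivial C with hC | hC
  · refine ⟨fun _ => 1, 0, fun h0 => one_ne_zero (congrFun h0 0), fun i => Subsingleton.elim _ _⟩
  have h1 : (1 : C) ≠ 0 := one_ne_zero
  let e : K ≃ₗ[K] Submodule.span K {(1 : C)} := LinearEquiv.toSpanNonzeroSingleton K C 1 h1
  let b : Module.Basis (Fin (m + 1)) K (Fin (m + 1) → Submodule.span K {(1 : C)}) :=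
    (Pi.basisFun K (Fin (m + 1))).map (LinearEquiv.piCongrRight fun _ => e)
  haveI := Module.Finite.of_basis b
  haveI : Nontrivial (Fin (m + 1) → Submodule.span K {(1 : C)}) := ⟨⟨b 0, 0, b.ne_zero 0⟩⟩
  letI c : HopfRep.Comod K C (Fin (m + 1) → Submodule.span K {(1 : C)}) := ofCorep b h
  obtain ⟨x, γ, hx, hρ⟩ := exists_eigenline hT (Fin (m + 1) → Submodule.span K {(1 : C)})
  refine ⟨fun i => b.repr x i, γ, fun h0 => hx (b.repr.map_eq_zero_iff.mp (Finsupp.ext fun i => congrFun h0 i)), fun i => ?_⟩
  have hco : ∀ j, HopfRep.Comod.coact (k := K) (A := C) (b j) = ∑ i, b i ⊗ₜ[K] T i j := fun j =>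
    Module.Basis.constr_basis ..
  have h2 := congr(coordLeft b i $hρ)
  conv_lhs at h2 => rw [← b.sum_repr x]
  simp only [map_sum, map_smul, hco] at h2
  simp only [coordLeft, LinearMap.comp_apply, LinearEquiv.coe_coe, LinearMap.rTensor_tmul,
    TensorProduct.lid_tmul, Module.Basis.coord_apply, Module.Basis.repr_self, Finsupp.single_apply] at h2
  simp only [ite_smul, one_smul, zero_smul, Finset.sum_ite_eq', Finset.mem_univ, if_true] at h2
  simp only [Algebra.smul_def] at h2
  rw [mul_comm γ, ← h2]
  exact Finset.sum_congr rfl fun j _ => mul_comm _ _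

theorem hasEig_of_field (hT : HopfRep.IsTrigonalizable K C) : HasEig K C := by
  intro m T h
  obtain ⟨w, γ, hw, he⟩ := exists_eigvec hT h
  obtain ⟨i₀, hi₀⟩ := Function.ne_iff.mp hw
  refine ⟨(w i₀)⁻¹ • w, i₀, γ, inv_mul_cancel₀ hi₀, fun i => ?_⟩
  simp only [Pi.smul_apply, smul_eq_mul, map_mul, mul_left_comm _ (algebraMap K C (w i₀)⁻¹),
    ← Finset.mul_sum, he i]

end Eigen

end Groth.Agent.TrigExh
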