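import Groth.Agent.TrigExh.Basic
import Groth.Agent.UnipConil.Basic
import Groth.Agent.DiagUnip.Eigen
import Groth.Agent.DiagUnip.Fixed
import Groth.Agent.MultT.Diag
import Groth.Agent.FinHopf.Sub

/-!
Trigonalizable groups are extensions of diagonalizable groups by unipotent ones.
-/

set_option autoImplicit false
set_option linter.style.haveILetI false
set_option linter.unusedSectionVars false

universe u

open TensorProduct Coalgebra
open Groth.Agent.Comod Groth.Agent.TrigExh
open Groth.Agent.DiagUnip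
open scoped Groth.Agent.Comod

noncomputable section

namespace Groth.Agent.TrigExh

variable {k : Type u} [Field k] {A : Type u} [CommRing A] [HopfAlgebra k A]

theorem mul_mem_glSpan {x y : A} (hx : x ∈ glSpan k A) (hy : y ∈ glSpan k A) : x * y ∈ glSpan k A := by
  refine Submodule.span_induction (p := fun x _ => x * y ∈ glSpan k A) ?_ (by simp)
    (fun a b _ _ ha hb => by rw [add_mul]; exact add_mem ha hb)
    (fun c a _ ha => by rw [smul_mul_assoc]; exact Submodule.smul_mem _ c ha) hx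
  rintro _ ⟨⟨a, ha⟩, rfl⟩
  refine Submodule.span_induction (p := fun y _ => a * y ∈ glSpan k A) ?_ (by simp)
    (fun p q _ _ hp hq => by rw [mul_add]; exact add_mem hp hq)
    (fun c p _ hp => by rw [mul_smul_comm]; exact Submodule.smul_mem _ c hp) hy
  rintro _ ⟨⟨b, hb⟩, rfl⟩
  exact mem_glSpan (ha.mul hb)

variable (k A) in
/-- The subalgebra spanned by the group-like elements. -/
def glAlg : Subalgebra k A :=
  (glSpan k A).toSubalgebra (mem_glSpan IsGroupLikeElem.one) fun _ _ => mul_mem_glSpan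

theorem isSubHopf_glAlg : Groth.Agent.FlatSub.IsSubHopf k (glAlg k A) := by
  refine ⟨fun b hb => ?_, fun b hb => ?_⟩
  · refine (mem_range_map_iff (Subalgebra.toSubmodule (glAlg k A)) (Subalgebra.toSubmodule (glAlg k A)) _).mpr ?_
    refine Submodule.span_induction (p := fun b _ =>
      (∀ f, cR f (comul (R := k) b) ∈ glSpan k A) ∧ ∀ φ, cL φ (comul (R := k) b) ∈ glSpan k A) ?_ (by simp)
      (fun a b _ _ ha hb => ⟨fun f => by rw [map_add, map_add]; exact add_mem (ha.1 f) (hb.1 f),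
        fun f => by rw [map_add, map_add]; exact add_mem (ha.2 f) (hb.2 f)⟩)
      (fun c a _ ha => ⟨fun f => by rw [map_smul, map_smul]; exact Submodule.smul_mem _ c (ha.1 f),
        fun f => by rw [map_smul, map_smul]; exact Submodule.smul_mem _ c (ha.2 f)⟩) hb
    rintro _ ⟨⟨g, hg⟩, rfl⟩
    constructor <;> intro f <;> rw [hg.comul_eq_tmul_self] <;> simp only [cR_tmul, cL_tmul] <;>
      exact Submodule.smul_mem _ _ (mem_glSpan hg)
  · refine Submodule.span_induction (p := fun b _ => HopfAlgebra.antipode k b ∈ glSpan k A) ?_ (by simp)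
      (fun a b _ _ ha hb => by rw [map_add]; exact add_mem ha hb)
      (fun c a _ ha => by rw [map_smul]; exact Submodule.smul_mem _ c ha) hb
    rintro _ ⟨⟨g, hg⟩, rfl⟩
    exact mem_glSpan hg.antipode

theorem comul_mem_glAlg {b : A} (hb : b ∈ glAlg k A) :
    comul (R := k) b ∈ (FinHopf.subIncl₂ (glAlg k A)).range := by
  obtain ⟨t, ht⟩ := isSubHopf_glAlg.1 b hb
  exact ⟨t, ht⟩

variable (k A) in
/-- The Hopf algebra spanned by the group-like elements. -/
@[implicit_reducible]
def glHopf : HopfAlgebra k (glAlg k A) :=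
  FinHopf.subHopf (glAlg k A) (fun _ h => comul_mem_glAlg h) (fun b h => isSubHopf_glAlg.2 b h)

attribute [local instance] glHopf

variable (k A) in
/-- The inclusion. -/
def glIncl : glAlg k A →ₐc[k] A :=
  BialgHom.ofAlgHom (glAlg k A).val (AlgHom.ext fun _ => rfl)
    (AlgHom.ext fun b => FinHopf.subIncl₂_subComul (glAlg k A) (fun _ h => comul_mem_glAlg h) b)

theorem isDiagonalizable_glAlg : HopfRep.IsDiagonalizable k (glAlg k A) := by
  refine eq_top_iff.mpr ?_
  rintro ⟨b, hb⟩ -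
  suffices ∀ b ∈ glSpan k A, ∀ hb : b ∈ glAlg k A,
      (⟨b, hb⟩ : glAlg k A) ∈ Submodule.span k {a : glAlg k A | IsGroupLikeElem k a} from this b hb hb
  intro b hb
  refine Submodule.span_induction (p := fun b _ => ∀ hb : b ∈ glAlg k A,
      (⟨b, hb⟩ : glAlg k A) ∈ Submodule.span k {a : glAlg k A | IsGroupLikeElem k a}) ?_ ?_ ?_ ?_ hb
  · rintro _ ⟨⟨g, hg⟩, rfl⟩ h
    refine Submodule.subset_span ⟨hg.counit_eq_one, FinHopf.subIncl₂_injective _ ?_⟩
    show FinHopf.subIncl₂ (glAlg k A) (FinHopf.subComul (glAlg k A) (fun _ h => comul_mem_glAlg h) ⟨g, h⟩) = _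
    rw [FinHopf.subIncl₂_subComul]
    exact hg.comul_eq_tmul_self
  · exact fun _ => zero_mem (Submodule.span k _)
  · intro a b ha hb iha ihb h
    exact add_mem (iha ha) (ihb hb)
  · intro c a ha iha h
    exact Submodule.smul_mem _ c (iha ha)

theorem filtT_map {X Y : Type u} [CommRing X] [Bialgebra k X] [CommRing Y] [Bialgebra k Y] (q : X →ₐc[k] Y)
    (h0 : ∀ g : X, IsGroupLikeElem k g → q g ∈ Submodule.span k {(1 : Y)}) :
    ∀ (n : ℕ) (c : X), c ∈ filtT k X n → q c ∈ UnipConil.filt k Y n := by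
  intro n
  induction n with
  | zero =>
    intro c hc
    have : glSpan k X ≤ (UnipConil.filt k Y 0).comap (q : X →ₗ[k] Y) := Submodule.span_le.mpr (by
      rintro _ ⟨⟨g, hg⟩, rfl⟩
      exact h0 g hg)
    exact this hc
  | succ n ih =>
    intro c hc
    refine UnipConil.mem_filt_succ.mpr fun f g hf hg => ?_
    let ql : X →ₗ[k] Y := (q : X →ₐ[k] Y).toLinearMap
    have hf' : ∀ x ∈ glSpan k X, (f ∘ₗ ql) x = 0 := fun x hx => by
      have hle : glSpan k X ≤ LinearMap.ker (f ∘ₗ ql) := Submodule.span_le.mpr (by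
        rintro _ ⟨⟨y, hy⟩, rfl⟩
        obtain ⟨a, ha⟩ := Submodule.mem_span_singleton.mp (h0 y hy)
        show f (q y) = 0
        rw [← ha, map_smul, hf, smul_zero])
      exact hle hx
    have := mem_filtT_succ.mp hc (f ∘ₗ ql) (g ∘ₗ ql) hf' fun x hx => hg _ (ih x hx)
    rw [← this]
    show LinearMap.mul' k k (TensorProduct.map f g (comul (R := k) (q c))) =
      LinearMap.mul' k k (TensorProduct.map (f ∘ₗ ql) (g ∘ₗ ql) (comul (R := k) c))
    rw [← CoalgHomClass.map_comp_comul_apply q c, TensorProduct.map_comp]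
    rfl

theorem isUnipotent_quot [(aug (glAlg k A)).IsHopfIdeal k] (hT : HopfRep.IsTrigonalizable k A) :
    HopfRep.IsUnipotent k (A ⧸ aug (glAlg k A)) := by
  refine UnipConil.isUnipotent_of_conil fun y => ?_
  obtain ⟨a, rfl⟩ := Ideal.Quotient.mk_surjective y
  obtain ⟨n, hn⟩ := exhaustive (A := k) (H := A) k (hasEig_of_field hT) ((1 : k) ⊗ₜ[k] a)
  let q : k ⊗[k] A →ₐc[k] A ⧸ aug (glAlg k A) :=
    (Bialgebra.Quotient.mkBialgHom (aug (glAlg k A))).comp (Bialgebra.TensorProduct.lid k A : k ⊗[k] A →ₐc[k] A)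
  refine ⟨n, ?_⟩
  have h := filtT_map q (fun g hg => ?_) n _ hn
  · have e : q ((1 : k) ⊗ₜ[k] a) = Ideal.Quotient.mk (aug (glAlg k A)) a := by
      show Ideal.Quotient.mk _ (TensorProduct.lid k A ((1 : k) ⊗ₜ[k] a)) = _
      rw [TensorProduct.lid_tmul, one_smul]
    rwa [e] at h
  · have hg' : IsGroupLikeElem k ((Bialgebra.TensorProduct.lid k A : k ⊗[k] A →ₐc[k] A) g) := hg.map _
    refine Submodule.mem_span_singleton.mpr ⟨1, ?_⟩
    show _ = prj (glAlg k A) ((Bialgebra.TensorProduct.lid k A : k ⊗[k] A →ₐc[k] A) g)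
    rw [prj_of_mem (show _ ∈ glAlg k A from mem_glSpan hg'), hg'.counit_eq_one, map_one, one_smul]

theorem isTrigonalizable_iff :
    HopfRep.IsTrigonalizable k A ↔
      ∃ (B : Type u) (_ : CommRing B) (_ : HopfAlgebra k B) (ψ : B →ₐc[k] A) (J : Ideal A) (_ : J.IsHopfIdeal k),
        Function.Injective ψ ∧ HopfRep.IsDiagonalizable k B ∧
          J = Ideal.map (ψ : B →+* A) (RingHom.ker (Bialgebra.counitAlgHom k B)) ∧
            HopfRep.IsUnipotent k (A ⧸ J) := by
  constructor
  · intro hT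
    haveI := isHopfIdeal_aug (isSubHopf_glAlg (k := k) (A := A))
    refine ⟨glAlg k A, inferInstance, glHopf k A, glIncl k A, aug (glAlg k A), inferInstance,
      Subtype.val_injective, isDiagonalizable_glAlg, ?_, isUnipotent_quot hT⟩
    show Ideal.span _ = Ideal.span _
    congr 1
    ext a
    constructor
    · rintro ⟨ha, h0⟩
      exact ⟨⟨a, ha⟩, h0, rfl⟩
    · rintro ⟨b, hb, rfl⟩
      exact ⟨b.2, hb⟩
  · rintro ⟨B, _, _, ψ, J, _, hψ, hB, hJ, hU⟩ V _ _ c hfin hV
    haveI := hV.1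
    obtain ⟨M, _, ⟨G⟩⟩ := exists_GBasis (MultT.isDiag_of_span hB)
    obtain ⟨v, -, hv, m, hm⟩ := exists_eigen G ψ hψ J hJ hU (V := V) (c := c) (W := ⊤)
      (fun w _ => (mem_range_rTensor_iff _ _).mpr fun f => trivial) top_ne_bot
    have hW : HopfRep.IsSubcomod (k := k) (A := A) (Submodule.span k {v}) := by
      intro w hw
      obtain ⟨a, rfl⟩ := Submodule.mem_span_singleton.mp hw
      exact ⟨⟨a • v, hw⟩ ⊗ₜ ψ (G.e m), by simp [hm, TensorProduct.smul_tmul']⟩
    rcases hV.2 _ hW with h0 | h1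
    · exact absurd (Submodule.span_singleton_eq_bot.mp h0) hv
    · rw [← finrank_top, ← h1, finrank_span_singleton hv]

end Groth.Agent.TrigExh
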